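import Groth.Agent.Variety2Frob.Degree
import Groth.Agent.Variety2.DimTrdeg
import Groth.Agent.Misc10.Weil.FrobGeom
import Groth.Agent.DescentBase.GeomReduced

/-!
The function field of a geometrically reduced integral scheme is geometrically reduced.
-/

set_option autoImplicit false

universe u

open CategoryTheory CategoryTheory.Limits AlgebraicGeometry TensorProduct

namespace Groth.Variety2Frob

/-- A localization of a geometrically reduced algebra inside a field is geometrically reduced. -/
theorem isGeometricallyReduced_of_fractions {k A L : Type u} [Field k] [CommRing A] [Algebra k A]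
    [Field L] [Algebra k L] [Algebra A L] [IsScalarTower k A L]
    (hinj : Function.Injective (algebraMap A L))
    (hfrac : ∀ z : L, ∃ a b : A, z = algebraMap A L a / algebraMap A L b)
    (hA : _root_.IsReduced (A ⊗[k] AlgebraicClosure k)) : Algebra.IsGeometricallyReduced k L := by
  rw [Algebra.isGeometricallyReduced_field_iff]
  let C := AlgebraicClosure k
  let F : C ⊗[k] A →ₐ[k] C ⊗[k] L := Algebra.TensorProduct.map (AlgHom.id k C) (IsScalarTower.toAlgHom k A L)
  have hF : Function.Injective F := Module.Flat.lTensor_preserves_injective_linearMap _ hinj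
  haveI : _root_.IsReduced (C ⊗[k] A) :=
    isReduced_of_injective (Algebra.TensorProduct.comm k C A).toRingEquiv (RingEquiv.injective _)
  have key : ∀ y : C ⊗[k] L, ∃ (z : C ⊗[k] A) (b : A), algebraMap A L b ≠ 0 ∧
      y * F ((1 : C) ⊗ₜ[k] b) = F z := by
    intro y
    induction y using TensorProduct.induction_on with
    | zero => exact ⟨0, 1, by simp, by simp⟩
    | tmul c l =>
      obtain ⟨a, b, rfl⟩ := hfrac l
      by_cases hb : algebraMap A L b = 0
      · exact ⟨0, 1, by simp, by simp [hb]⟩
      · refine ⟨c ⊗ₜ a, b, hb, ?_⟩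
        simp [F, hb]
    | add y₁ y₂ h₁ h₂ =>
      obtain ⟨z₁, b₁, n₁, e₁⟩ := h₁
      obtain ⟨z₂, b₂, n₂, e₂⟩ := h₂
      refine ⟨z₁ * ((1 : C) ⊗ₜ b₂) + z₂ * ((1 : C) ⊗ₜ b₁), b₁ * b₂, by simp [n₁, n₂], ?_⟩
      rw [show (1 : C) ⊗ₜ[k] (b₁ * b₂) = ((1 : C) ⊗ₜ[k] b₁) * ((1 : C) ⊗ₜ[k] b₂) by simp, map_mul,
        map_add, map_mul, map_mul, ← e₁, ← e₂]
      ring
  constructor
  intro y hy
  obtain ⟨z, b, hb, e⟩ := key y
  have hz : IsNilpotent (F z) := e ▸ (Commute.all _ _).isNilpotent_mul_right hy
  have hz0 : z = 0 := IsReduced.eq_zero z ((IsNilpotent.map_iff hF).1 hz)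
  rw [hz0, map_zero] at e
  have hu : IsUnit (F ((1 : C) ⊗ₜ[k] b)) := by
    have : F ((1 : C) ⊗ₜ[k] b) = Algebra.TensorProduct.includeRight (R := k) (A := C) (algebraMap A L b) := by
      simp [F]
    rw [this]
    exact (IsUnit.mk0 _ hb).map _
  exact hu.mul_left_eq_zero.1 e

/-- The function field of a geometrically reduced integral scheme of finite type is geometrically
reduced. -/
theorem isGeometricallyReduced_residueField {k : Type u} [Field k] {X : Scheme.{u}} [IsIntegral X]
    (f : X ⟶ Spec (CommRingCat.of k)) [LocallyOfFiniteType f] [GeometricallyReduced f] :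
    letI := (Groth.Variety2.Dim.resHom f (genericPoint X)).toAlgebra
    Algebra.IsGeometricallyReduced k (X.residueField (genericPoint X)) := by
  set η := genericPoint X
  obtain ⟨U, hU, hxU, -⟩ := exists_isAffineOpen_mem_and_subset (U := ⊤) (Set.mem_univ η)
  obtain ⟨φ, hφ, -⟩ := Groth.Variety2.Dim.exists_algebra f hU
  letI := φ.hom.toAlgebra
  letI := (Groth.Variety2.Dim.resHom f η).toAlgebra
  letI : Algebra Γ(X, U) (X.residueField η) := (X.evaluation U η hxU).hom.toAlgebra
  have hev : CommRingCat.ofHom (Groth.Variety2.Dim.resHom f η) = φ ≫ X.evaluation U η hxU := by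
    apply Spec.map_injective
    rw [Groth.Variety2.Dim.resHom_spec, Spec.map_comp, hφ]
    change _ = Spec.map (X.presheaf.germ U η hxU ≫ X.residue η) ≫ _
    rw [Spec.map_comp, Category.assoc]
    have := hU.fromSpecStalk_eq_fromSpecStalk hxU
    rw [IsAffineOpen.fromSpecStalk] at this
    rw [reassoc_of% this]
    exact Category.assoc _ _ _
  haveI : IsScalarTower k Γ(X, U) (X.residueField η) :=
    IsScalarTower.of_algebraMap_eq fun c => congr($(congrArg CommRingCat.Hom.hom hev) c)
  haveI : IsDomain (X.presheaf.stalk η) := inferInstance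
  have hres : Function.Injective (X.residue η).hom := by
    let r : X.functionField →+* X.residueField η := (X.residue η).hom
    exact r.injective
  refine isGeometricallyReduced_of_fractions (A := Γ(X, U)) (hres.comp ?_)
    (fun z => Groth.Misc10.FrobResidue.exists_div_of_isAffineOpen hU η hxU z) ?_
  · haveI : Nonempty U := ⟨⟨η, hxU⟩⟩
    exact germ_injective_of_isIntegral X η hxU
  · haveI := GeometricallyReduced.geometrically_isReduced (f := f)
      (Spec.map (CommRingCat.ofHom (algebraMap k (AlgebraicClosure k)))) _ _ (IsPullback.of_hasPullback _ _)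
    haveI : IsReduced (pullback (Spec.map φ) (Spec.map (CommRingCat.ofHom (algebraMap k (AlgebraicClosure k))))) :=
      isReduced_of_isOpenImmersion (pullback.map _ _ f (Spec.map (CommRingCat.ofHom (algebraMap k (AlgebraicClosure k))))
        hU.fromSpec (𝟙 _) (𝟙 _) (by rw [Category.comp_id]; exact hφ) (by simp))
    exact (affine_isReduced_iff (CommRingCat.of _)).mp
      (isReduced_of_isOpenImmersion (pullbackSpecIso k Γ(X, U) (AlgebraicClosure k)).inv)

end Groth.Variety2Frob
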