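import Groth.Agent.Calg5.KaehlerField
import Groth.Agent.NeronArea.SeparatingCoordinates
import Mathlib

/-!
The degree of a separably generated field extension over the compositum of the base with the
`p`-th powers.
-/

set_option autoImplicit false

universe u

namespace Groth.Variety2Frob

open KaehlerDifferential

variable {k K : Type u} [Field k] [Field K] [Algebra k K] (p : ℕ) [hp : Fact p.Prime] [CharP K p]

local notation "L₀" => IntermediateField.adjoin k (Set.range fun x : K => x ^ p)

theorem D_eq_zero_pow (x : K) : D k K (x ^ p) = 0 := by
  rw [Derivation.leibniz_pow, ← Nat.cast_smul_eq_nsmul K, CharP.cast_eq_zero, zero_smul]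

variable {ι : Type u} {x : ι → K}

/-- The elements whose differential lies in a submodule form a subfield. -/
def diffField (W : Submodule K Ω[K⁄k]) : IntermediateField k K where
  carrier := {a | D k K a ∈ W}
  mul_mem' := fun {a b} ha hb => by
    show D k K (a * b) ∈ W
    rw [Derivation.leibniz]
    exact W.add_mem (W.smul_mem _ hb) (W.smul_mem _ ha)
  one_mem' := by show D k K 1 ∈ W; simp
  add_mem' := fun {a b} ha hb => by
    show D k K (a + b) ∈ W
    rw [map_add]; exact W.add_mem ha hb
  zero_mem' := by show D k K 0 ∈ W; simp
  algebraMap_mem' := fun c => by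
    show D k K _ ∈ W
    rw [Derivation.map_algebraMap]; exact W.zero_mem
  inv_mem' := fun a ha => by
    show D k K a⁻¹ ∈ W
    rw [Derivation.leibniz_inv]
    exact W.smul_mem _ ha

/-- A member of a differentially independent family is outside the field generated by the others and
the `p`-th powers. -/
theorem notMem_adjoin (hli : LinearIndependent K fun i => D k K (x i)) (s : Set ι) {i : ι} (hi : i ∉ s) :
    x i ∉ IntermediateField.adjoin L₀ (x '' s) := by
  intro h
  rw [← IntermediateField.mem_restrictScalars k, IntermediateField.adjoin_adjoin_left] at h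
  set W := Submodule.span K ((fun j => D k K (x j)) '' s) with hW
  have hle : IntermediateField.adjoin k ((Set.range fun a : K => a ^ p) ∪ x '' s) ≤ diffField W := by
    rw [IntermediateField.adjoin_le_iff]
    rintro a (⟨b, rfl⟩ | ⟨j, hj, rfl⟩)
    · show D k K (b ^ p) ∈ W
      rw [D_eq_zero_pow]; exact W.zero_mem
    · exact Submodule.subset_span ⟨j, hj, rfl⟩
  exact hli.notMem_span_image hi (hle h)

theorem finrank_adjoin_finset (hli : LinearIndependent K fun i => D k K (x i)) (s : Finset ι) :
    Module.finrank L₀ (IntermediateField.adjoin L₀ (x '' (s : Set ι))) = p ^ s.card := by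
  classical
  induction s using Finset.induction_on with
  | empty => simp
  | @insert i s hi ih =>
    set E := IntermediateField.adjoin L₀ (x '' (s : Set ι)) with hE
    have hpow : x i ^ p ∈ E :=
      E.algebraMap_mem (⟨x i ^ p, IntermediateField.subset_adjoin k _ ⟨x i, rfl⟩⟩ : L₀)
    have hnot : ∀ b : E, b ^ p ≠ (⟨x i ^ p, hpow⟩ : E) := by
      intro b hb
      have hb' : (b : K) ^ p = x i ^ p := by simpa using congrArg (Subtype.val : E → K) hb
      have := frobenius_inj K p hb'
      exact notMem_adjoin p hli s (by simpa using hi) (this ▸ b.2)
    have hirr := X_pow_sub_C_irreducible_of_prime hp.out hnot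
    have hmin : minpoly E (x i) = Polynomial.X ^ p - Polynomial.C (⟨x i ^ p, hpow⟩ : E) :=
      (minpoly.eq_of_irreducible_of_monic hirr (by simp) (Polynomial.monic_X_pow_sub_C _ hp.out.ne_zero)).symm
    have hint : IsIntegral E (x i) :=
      ⟨_, Polynomial.monic_X_pow_sub_C (⟨x i ^ p, hpow⟩ : E) hp.out.ne_zero, by simp⟩
    have hdeg : Module.finrank E (IntermediateField.adjoin E {x i}) = p := by
      rw [IntermediateField.adjoin.finrank hint, hmin, Polynomial.natDegree_X_pow_sub_C]
    have heq : IntermediateField.adjoin L₀ (x '' ((insert i s : Finset ι) : Set ι)) =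
        (IntermediateField.adjoin E {x i}).restrictScalars L₀ := by
      rw [hE, IntermediateField.adjoin_adjoin_left, Finset.coe_insert, Set.image_insert_eq,
        ← Set.union_singleton]
    rw [heq, Finset.card_insert_of_notMem hi, pow_succ, ← ih]
    conv_rhs => arg 2; rw [← hdeg]
    exact (Module.finrank_mul_finrank L₀ E (IntermediateField.adjoin E {x i})).symm

omit [CharP K p] in
/-- For a finitely generated geometrically reduced extension of transcendence degree `n`, the
degree over `k(K ^ p)` is `p ^ n`. -/
theorem finrank_adjoin_pow [CharP k p] [Algebra.EssFiniteType k K] [Algebra.IsGeometricallyReduced k K]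
    (n : ℕ) (hn : Algebra.trdeg k K = n) :
    Module.finrank L₀ K = p ^ n := by
  haveI : CharP K p := charP_of_injective_algebraMap (algebraMap k K).injective p
  obtain ⟨t, ht, hsep⟩ := Groth.NeronArea.SepCoord.exists_separating_basis k K
  have e : Set.range ((↑) : t → K) = (t : Set K) := by ext; simp
  haveI : Algebra.IsSeparable (IntermediateField.adjoin k (Set.range ((↑) : t → K))) K := by
    rw [e]; exact hsep
  obtain ⟨b, hb⟩ := Groth.Calg5.exists_kaehler_basis ht
  have hli : LinearIndependent K fun i : t => D k K (i : K) := by
    simpa only [← hb] using b.linearIndependent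
  have hbasis : IsTranscendenceBasis k ((↑) : t → K) := by
    haveI : Algebra.IsAlgebraic (IntermediateField.adjoin k (Set.range ((↑) : t → K))) K := inferInstance
    exact ht.isTranscendenceBasis_iff_isAlgebraic.2
      (IntermediateField.isAlgebraic_adjoin_iff_top.1 inferInstance)
  have hcard : t.card = n := by
    have h := hbasis.cardinalMk_eq_trdeg
    rw [hn] at h
    simpa using h
  have htop : IntermediateField.adjoin L₀ (((↑) : t → K) '' ((Finset.univ : Finset t) : Set t)) = ⊤ := by
    rw [eq_top_iff]
    intro a _
    rw [Finset.coe_univ, Set.image_univ, ← IntermediateField.mem_restrictScalars k,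
      IntermediateField.adjoin_adjoin_left]
    have ha : a ∈ IntermediateField.adjoin (IntermediateField.adjoin k (Set.range ((↑) : t → K)))
        (Set.univ : Set K) := IntermediateField.subset_adjoin _ _ trivial
    haveI : CharP (IntermediateField.adjoin k (Set.range ((↑) : t → K))) p :=
      charP_of_injective_algebraMap (algebraMap k _).injective p
    rw [IntermediateField.adjoin_eq_adjoin_pow_expChar_of_isSeparable' _ K Set.univ p,
      ← IntermediateField.mem_restrictScalars k, IntermediateField.adjoin_adjoin_left,
      Set.image_univ, Set.union_comm] at ha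
    exact ha
  have h := finrank_adjoin_finset p hli Finset.univ
  rw [htop, IntermediateField.finrank_top'] at h
  rw [h, Finset.card_univ, Fintype.card_coe, hcard]

end Groth.Variety2Frob
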